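import Cfsg.Agent.H262.ElSympQ

/-!
# S5733, BS-R3: quadratic extension fields and even exponents

`x` of prime order `r`, `|F|^j = -1` modulo `r`; `W = [V, x]` irreducible.  Every `T` commuting with `x` satisfies
`f (T u) v = f u (T ^ (|F|^j) v)` on `W`, for every `x`-invariant form `f`.
-/

set_option autoImplicit false

namespace Cfsg.Agent.H118.BS

open Cfsg Cfsg.Geo Module Polynomial
open Cfsg.Agent.H951 (fx cm Inv Irr mem_cm)
open scoped Matrix MatrixGroups

universe u v

section frob

variable {F : Type u} [Field F] [Fintype F]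

theorem aeval_pow_card {A : Type v} [Ring A] [Algebra F A] (x : A) (P : F[X]) (j : ℕ) :
    aeval (x ^ (Fintype.card F ^ j)) P = (aeval x P) ^ (Fintype.card F ^ j) := by
  induction j with
  | zero => simp
  | succ j ih =>
    have h1 : ∀ y : A, aeval (y ^ Fintype.card F) P = (aeval y P) ^ Fintype.card F := by
      intro y
      rw [← map_pow, ← FiniteField.expand_card, Polynomial.expand_aeval]
    rw [pow_succ, pow_mul, h1, ih, ← pow_mul]

variable {V : Type v} [AddCommGroup V] [Module F V] {x T : Module.End F V} {W : Submodule F V}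

omit [Fintype F] in
/-- an operator which commutes with `x` is a polynomial in `x` on an irreducible subspace which it preserves -/
theorem exists_poly (hW : Irr x W) (hT : T * x = x * T) (hTW : ∀ w ∈ W, T w ∈ W) :
    ∃ P : F[X], ∀ w ∈ W, T w = aeval x P w := by
  obtain ⟨hW0, hWi, hWm⟩ := hW
  obtain ⟨u, huW, hu0⟩ := (Submodule.ne_bot_iff _).1 hW0
  let L : F[X] →ₗ[F] V :=
    { toFun := fun P => aeval x P u
      map_add' := fun P Q => by rw [map_add, LinearMap.add_apply]
      map_smul' := fun c P => by rw [map_smul, LinearMap.smul_apply]; rfl }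
  have hL : ∀ P, L P = aeval x P u := fun _ => rfl
  have hS : LinearMap.range L = W := by
    refine (hWm _ ?_ ?_).resolve_left ?_
    · rintro _ ⟨P, rfl⟩
      exact hWi.aeval P u huW
    · rintro _ ⟨P, rfl⟩
      refine ⟨X * P, ?_⟩
      rw [hL, hL, map_mul, aeval_X, Module.End.mul_apply]
    · intro h
      apply hu0
      rw [← Submodule.mem_bot F, ← h]
      exact ⟨1, by rw [hL, map_one, Module.End.one_apply]⟩
  have hcm : ∀ R : F[X], T * aeval x R = aeval x R * T := by
    intro R
    induction R using Polynomial.induction_on' with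
    | add p q hp hq => rw [map_add, mul_add, add_mul, hp, hq]
    | monomial n a =>
      rw [aeval_monomial, ← mul_assoc, ← Algebra.commutes, mul_assoc, mul_assoc,
        ((show Commute T x from hT).pow_right n).eq]
  obtain ⟨P, hP⟩ : T u ∈ LinearMap.range L := by
    rw [hS]
    exact hTW u huW
  refine ⟨P, fun w hw => ?_⟩
  rw [← hS] at hw
  obtain ⟨R, rfl⟩ := hw
  rw [hL, ← Module.End.mul_apply, hcm, Module.End.mul_apply, ← hP, hL, ← Module.End.mul_apply,
    ← Module.End.mul_apply, ← map_mul, ← map_mul, mul_comm]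

/-- the adjoint of `T` -/
theorem adj (hW : Irr x W) (hT : T * x = x * T) (hTW : ∀ w ∈ W, T w ∈ W) {j : ℕ}
    (hj : x ^ (Fintype.card F ^ j) * x = 1) (c : LinearMap.BilinForm F V) (hc : ∀ u v, c (x u) (x v) = c u v) :
    ∀ u ∈ W, ∀ v ∈ W, c (T u) v = c u ((T ^ (Fintype.card F ^ j)) v) := by
  obtain ⟨P, hP⟩ := exists_poly hW hT hTW
  set y : Module.End F V := x ^ (Fintype.card F ^ j) with hy
  have hxy : x * y = 1 := by
    rw [← hj, hy, ← pow_succ, ← pow_succ']
  have h1 : ∀ n : ℕ, ∀ u v, c ((x ^ n) u) v = c u ((y ^ n) v) := by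
    intro n
    induction n with
    | zero => intro u v; simp
    | succ n ih =>
      intro u v
      rw [pow_succ', Module.End.mul_apply, pow_succ, Module.End.mul_apply, ← ih]
      have h2 : v = x (y v) := by
        rw [← Module.End.mul_apply, hxy, Module.End.one_apply]
      conv_lhs => rw [h2]
      rw [hc]
  have h2 : ∀ (R : F[X]) (u v : V), c (aeval x R u) v = c u (aeval y R v) := by
    intro R u v
    induction R using Polynomial.induction_on' with
    | add p q hp hq => rw [map_add, map_add, LinearMap.add_apply, LinearMap.add_apply, map_add, LinearMap.add_apply,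
        map_add, hp, hq]
    | monomial n a =>
      rw [aeval_monomial, aeval_monomial, Module.End.mul_apply, Module.End.mul_apply, Module.algebraMap_end_apply,
        Module.algebraMap_end_apply, map_smul, LinearMap.smul_apply, map_smul, h1]
  have h3 : ∀ n : ℕ, ∀ v ∈ W, (T ^ n) v = ((aeval x P) ^ n) v ∧ (T ^ n) v ∈ W := by
    intro n
    induction n with
    | zero => intro v hv; exact ⟨rfl, by simpa using hv⟩
    | succ n ih =>
      intro v hv
      obtain ⟨h4, h5⟩ := ih v hv
      rw [pow_succ', Module.End.mul_apply, pow_succ', Module.End.mul_apply, ← h4]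
      exact ⟨hP _ h5, hTW _ h5⟩
  intro u hu v hv
  rw [hP u hu, h2, hy, aeval_pow_card, (h3 _ v hv).1]

end frob

section field

open Cfsg.Agent

variable {ι : Type} [Fintype ι] [DecidableEq ι] {F : Type u} [Field F] [Fintype F]

theorem pow_card_sq [Nonempty ι] {K : Subalgebra F (Matrix ι ι F)} (hK : IsFieldSubalgebra 2 K) {k : Matrix ι ι F}
    (hk : k ∈ K) : k ^ (Fintype.card F ^ 2) = k := by
  let _ : Field K := (H912.isField_of_fieldSub hK).toField
  have hfin : Finite K := Module.finite_of_finite F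
  have : Fintype K := Fintype.ofFinite K
  have h1 : Fintype.card K = Fintype.card F ^ 2 := by
    rw [Module.card_eq_pow_finrank (K := F) (V := K), hK.finrank_eq]
  have h2 := FiniteField.pow_card (⟨k, hk⟩ : K)
  rw [h1] at h2
  exact congrArg Subtype.val h2

theorem exists_pow_ne [Nonempty ι] {K : Subalgebra F (Matrix ι ι F)} (hK : IsFieldSubalgebra 2 K) :
    ∃ k ∈ K, k ^ Fintype.card F ≠ k := by
  by_contra hcon
  push Not at hcon
  let _ : Field K := (H912.isField_of_fieldSub hK).toField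
  have hfin : Finite K := Module.finite_of_finite F
  have : Fintype K := Fintype.ofFinite K
  have h1 : Fintype.card K = Fintype.card F ^ 2 := by
    rw [Module.card_eq_pow_finrank (K := F) (V := K), hK.finrank_eq]
  obtain ⟨g, hg⟩ := IsCyclic.exists_ofOrder_eq_natCard (α := Kˣ)
  have h2 : Nat.card Kˣ = Fintype.card F ^ 2 - 1 := by
    rw [Nat.card_units, Nat.card_eq_fintype_card, h1]
  have h3 : (g : K) ^ Fintype.card F = g := by
    apply Subtype.ext
    exact hcon _ (g : K).2
  have h4 : g ^ (Fintype.card F - 1) = 1 := by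
    have h5 : g ^ Fintype.card F = g := Units.ext (by rw [Units.val_pow_eq_pow_val, h3])
    have h6 : 1 ≤ Fintype.card F := Fintype.card_pos
    rw [← Nat.sub_add_cancel h6, pow_succ] at h5
    exact mul_eq_right.1 h5
  have h5 := orderOf_dvd_of_pow_eq_one h4
  rw [hg, h2] at h5
  have h6 : 1 < Fintype.card F := Fintype.one_lt_card
  have h7 := Nat.le_of_dvd (by omega) h5
  have h8 : Fintype.card F * 2 ≤ Fintype.card F ^ 2 := by
    rw [sq]
    exact Nat.mul_le_mul_left _ h6
  omega

theorem pow_even [Nonempty ι] {K : Subalgebra F (Matrix ι ι F)} (hK : IsFieldSubalgebra 2 K) {k : Matrix ι ι F}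
    (hk : k ∈ K) (i : ℕ) : k ^ (Fintype.card F ^ (2 * i)) = k := by
  induction i with
  | zero => simp
  | succ i ih => rw [mul_add, mul_one, pow_add, pow_mul, ih, pow_card_sq hK hk]

end field

section main

open Cfsg.Agent Cfsg.Agent.H884.El Cfsg.Agent.H262.El
open Cfsg.Agent.ClassicalGeometry.SympBasic Cfsg.Agent.H876 Cfsg.Agent.H931

variable {F : Type u} [Field F] [Fintype F] {m : ℕ}

theorem quad_core {g : GL (Fin m ⊕ Fin m) F} (hg : g ∈ spGL m F) {r j : ℕ}
    (hr : PP (Nat.card F) (2 * j) r) (hj : 1 ≤ j) (hm : m < 2 * j) (hgr : g ^ r = 1) (hg1 : g ≠ 1)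
    {K : Subalgebra F (Matrix (Fin m ⊕ Fin m) (Fin m ⊕ Fin m) F)} (hK : IsFieldSubalgebra 2 K)
    (hgK : g ∈ subalgebraNormalizer K) :
    ∃ W : Submodule F (Fin m ⊕ Fin m → F), W ≠ ⊥ ∧ (∀ v ∈ W, (∀ u ∈ W, sympForm m F u v = 0) → v = 0) ∧
      (∀ k ∈ K, ∀ w ∈ W, k *ᵥ w ∈ W) ∧
      ∀ k ∈ K, ∀ u ∈ W, ∀ v ∈ W, sympForm m F (k *ᵥ u) v = sympForm m F u ((k ^ (Fintype.card F ^ j)) *ᵥ v) := by
  have hne : Nonempty (Fin m ⊕ Fin m) := by
    by_contra h
    rw [not_nonempty_iff] at h
    exact hg1 (Subsingleton.elim _ _)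
  have hr2 : r ≠ 2 := by have := hr.lt (by omega); omega
  have hrF : (r : F) ≠ 0 := hr.ne0 (by omega)
  have hprime := Fact.mk hr.prime
  have hcomm := comm_field Nat.prime_two hK hgK hr.prime hr2 hgr
  set x : Module.End F (Fin m ⊕ Fin m → F) := lin g with hxdef
  have hx : x ^ r = 1 := by rw [hxdef, ← H251.GeoCard.toLin_pow, hgr]; exact lin_one
  have hfx : ∀ u v, sympForm m F (x u) (x v) = sympForm m F u v := by
    intro u v
    rw [hxdef, lin, Matrix.toLin'_apply, Matrix.toLin'_apply]
    exact mem_spGL_iff.1 hg u v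
  obtain ⟨W, hWcm, hirr⟩ := H951.exists_irr (x := x) H951.inv_cm (cm_ne_bot (lin_ne_one hg1))
  have hWd : finrank F W = 2 * j := by rw [hirr.finrank_eq hrF hx hWcm, ord_eq hr]
  have hV : finrank F (Fin m ⊕ Fin m → F) = 2 * m := by
    rw [Module.finrank_fintype_fun_eq_card, card_sum_fin]
  have hcmd : finrank F (cm x) = 2 * j := by
    have h1 := H951.ord_dvd_finrank hx H951.inv_cm (H951.inf_fx_of_le_cm hrF hx le_rfl)
    rw [ord_eq hr] at h1
    obtain ⟨c, hc⟩ := h1
    have h2 : finrank F (cm x) ≤ 2 * m := hV ▸ Submodule.finrank_le _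
    have h3 := Submodule.finrank_mono hWcm
    rw [hWd] at h3
    have h4 : c = 1 := by
      have h5 : c < 2 := by
        by_contra hcon
        have := Nat.mul_le_mul_left (2 * j) (not_lt.1 hcon)
        omega
      have h6 : c ≠ 0 := by
        rintro rfl
        omega
      omega
    rw [hc, h4, mul_one]
  have hWeq : W = cm x := Submodule.eq_of_le_of_finrank_eq hWcm (by rw [hWd, hcmd])
  -- `x ^ (q ^ j) = x⁻¹`
  have hxj : x ^ (Fintype.card F ^ j) * x = 1 := by
    have h1 : r ∣ Fintype.card F ^ j + 1 := by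
      rw [← ZMod.natCast_eq_zero_iff]
      have h2 := hr.ord
      rw [Nat.card_eq_fintype_card] at h2
      have h3 : ((Fintype.card F : ZMod r) ^ j) ^ 2 = 1 := by
        rw [← pow_mul, mul_comm, ← h2, pow_orderOf_eq_one]
      have h3' : (((Fintype.card F : ZMod r) ^ j) - 1) * (((Fintype.card F : ZMod r) ^ j) + 1) = 0 := by
        linear_combination h3
      rcases mul_eq_zero.1 h3' with h4 | h4
      · exfalso
        have h5 := orderOf_dvd_of_pow_eq_one (sub_eq_zero.1 h4)
        rw [h2] at h5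
        have := Nat.le_of_dvd (by omega) h5
        omega
      · push_cast
        exact h4
    obtain ⟨c, hc⟩ := h1
    rw [← pow_succ, hc, pow_mul, hx, one_pow]
  have hTx : ∀ k ∈ K, Matrix.toLin' k * x = x * Matrix.toLin' k := by
    intro k hk
    apply LinearMap.ext
    intro v
    rw [Module.End.mul_apply, Module.End.mul_apply, hxdef, lin, Matrix.toLin'_apply, Matrix.toLin'_apply,
      Matrix.toLin'_apply, Matrix.toLin'_apply, Matrix.mulVec_mulVec, Matrix.mulVec_mulVec, hcomm k hk]
  have hTW : ∀ k ∈ K, ∀ w ∈ W, Matrix.toLin' k w ∈ W := by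
    intro k hk w hw
    rw [hWeq] at hw ⊢
    obtain ⟨u, rfl⟩ := mem_cm.1 hw
    refine mem_cm.2 ⟨Matrix.toLin' k u, ?_⟩
    have h1 := LinearMap.congr_fun (hTx k hk) u
    rw [Module.End.mul_apply, Module.End.mul_apply] at h1
    rw [← h1, map_sub]
  refine ⟨W, hirr.1, ?_, fun k hk w hw => by
    have := hTW k hk w hw
    rwa [Matrix.toLin'_apply] at this, ?_⟩
  · -- nondegenerate
    let N : Submodule F (Fin m ⊕ Fin m → F) :=
      { carrier := {v | v ∈ W ∧ ∀ u ∈ W, sympForm m F u v = 0}
        add_mem' := fun {a b} ha hb => ⟨W.add_mem ha.1 hb.1, fun u hu => by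
          rw [sympForm_add_right, ha.2 u hu, hb.2 u hu, add_zero]⟩
        zero_mem' := ⟨W.zero_mem, fun u _ => by
          have := sympForm_smul_right (F := F) (m := m) (0 : F) u 0
          rwa [zero_smul, zero_mul] at this⟩
        smul_mem' := fun a v hv => ⟨W.smul_mem a hv.1, fun u hu => by
          rw [sympForm_smul_right, hv.2 u hu, mul_zero]⟩ }
    have hNW : N ≤ W := fun v hv => hv.1
    have hNi : Inv x N := by
      rintro v ⟨hv, hv2⟩
      refine ⟨hirr.2.1 v hv, fun u hu => ?_⟩
      obtain ⟨u', hu', rfl⟩ : ∃ u' ∈ W, x u' = u := by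
        refine ⟨(x ^ (r - 1)) u, hirr.2.1.pow _ u hu, ?_⟩
        rw [← Module.End.mul_apply, ← pow_succ', Nat.sub_add_cancel hr.prime.one_le, hx]
        rfl
      rw [hfx]
      exact hv2 u' hu'
    rcases hirr.2.2 N hNW hNi with hN | hN
    · intro v hv hv2
      have : v ∈ N := ⟨hv, hv2⟩
      rw [hN] at this
      exact (Submodule.mem_bot F).1 this
    · exfalso
      have h1 := two_mul_finrank_le (m := m) (U := W) (fun u hu v hv => by
        rw [← hN] at hv
        exact hv.2 u hu)
      omega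
  · intro k hk u hu v hv
    have h1 := adj hirr (hTx k hk) (hTW k hk) hxj (bf m F) (fun u v => hfx u v) u hu v hv
    rw [bf_apply, bf_apply, Matrix.toLin'_apply] at h1
    rw [h1]
    congr 1
    rw [← Matrix.toLin'_apply, ← Matrix.toLin'_pow]

/-- a self-adjoint quadratic field excludes `e = 2 j`, `j` odd -/
theorem no_quad_odd {g : GL (Fin m ⊕ Fin m) F} (hg : g ∈ spGL m F) {r j : ℕ}
    (hr : PP (Nat.card F) (2 * j) r) (hj : Odd j) (hm : m < 2 * j) (hgr : g ^ r = 1) (hg1 : g ≠ 1)
    {K : Subalgebra F (Matrix (Fin m ⊕ Fin m) (Fin m ⊕ Fin m) F)} (hK : IsFieldSubalgebra 2 K)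
    (hsa : IsSelfAdjointFor (sympForm m F) K)
    (hgK : g ∈ subalgebraNormalizer K) : False := by
  have hne : Nonempty (Fin m ⊕ Fin m) := by
    by_contra h
    rw [not_nonempty_iff] at h
    exact hg1 (Subsingleton.elim _ _)
  obtain ⟨W, hW0, hnd, hKW, hadj⟩ := quad_core hg hr hj.pos hm hgr hg1 hK hgK
  obtain ⟨w, hw, hw0⟩ := (Submodule.ne_bot_iff _).1 hW0
  obtain ⟨k, hk, hne'⟩ := exists_pow_ne hK
  apply hne'
  obtain ⟨i, rfl⟩ := hj
  have h1 : k ^ (Fintype.card F ^ (2 * i + 1)) = k := by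
    by_contra hcon
    have h2 : k ^ (Fintype.card F ^ (2 * i + 1)) - k ∈ K := K.sub_mem (K.pow_mem hk _) hk
    obtain ⟨y, hy, hy1⟩ := hK.inv _ h2 (sub_ne_zero.2 hcon)
    have h3 : (k ^ (Fintype.card F ^ (2 * i + 1)) - k) *ᵥ w = 0 := by
      apply hnd _ (hKW _ h2 w hw)
      intro u hu
      rw [Matrix.sub_mulVec, sub_eq_add_neg, sympForm_add_right, ← hadj k hk u hu w hw, hsa k hk u w,
        ← neg_one_smul F, sympForm_smul_right]
      ring
    apply hw0
    rw [← Matrix.one_mulVec w, ← hy1, hK.comm _ h2 y hy, ← Matrix.mulVec_mulVec, h3, Matrix.mulVec_zero]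
  rwa [pow_succ, pow_mul, pow_even hK hk] at h1

/-- a quadratic field closed under adjoints but not self-adjoint excludes `e = 2 j`, `j` even -/
theorem no_quad_even {g : GL (Fin m ⊕ Fin m) F} (hg : g ∈ spGL m F) {r j : ℕ}
    (hr : PP (Nat.card F) (2 * j) r) (hj : Even j) (hm : m < 2 * j) (hgr : g ^ r = 1) (hg1 : g ≠ 1)
    {K : Subalgebra F (Matrix (Fin m ⊕ Fin m) (Fin m ⊕ Fin m) F)} (hK : IsFieldSubalgebra 2 K)
    (hac : IsAdjointClosedFor (sympForm m F) K) (hsa : ¬ IsSelfAdjointFor (sympForm m F) K)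
    (hgK : g ∈ subalgebraNormalizer K) : False := by
  have hne : Nonempty (Fin m ⊕ Fin m) := by
    by_contra h
    rw [not_nonempty_iff] at h
    exact hg1 (Subsingleton.elim _ _)
  obtain ⟨W, hW0, hnd, hKW, hadj⟩ := quad_core hg hr (by omega) hm hgr hg1 hK hgK
  obtain ⟨w, hw, hw0⟩ := (Submodule.ne_bot_iff _).1 hW0
  apply hsa
  intro k hk u v
  obtain ⟨k', hk', h1⟩ := hac k hk
  have h2 : k' = k := by
    by_contra hcon
    have h2 : k' - k ∈ K := K.sub_mem hk' hk
    obtain ⟨y, hy, hy1⟩ := hK.inv _ h2 (sub_ne_zero.2 hcon)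
    have h3 : (k' - k) *ᵥ w = 0 := by
      apply hnd _ (hKW _ h2 w hw)
      intro u hu
      obtain ⟨i, hi⟩ := hj
      have h4 : k ^ (Fintype.card F ^ j) = k := by
        have h5 : j = 2 * i := by omega
        rw [h5]
        exact pow_even hK hk i
      have h5 := hadj k hk u hu w hw
      rw [h4, h1] at h5
      rw [Matrix.sub_mulVec, sub_eq_add_neg, sympForm_add_right, h5, ← neg_one_smul F, sympForm_smul_right]
      ring
    apply hw0
    rw [← Matrix.one_mulVec w, ← hy1, hK.comm _ h2 y hy, ← Matrix.mulVec_mulVec, h3, Matrix.mulVec_zero]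
  rw [h1, h2]

end main

end Cfsg.Agent.H118.BS
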