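import Cfsg.Agent.H262.ElSympMiss
import Cfsg.Agent.H118.BS.Quad
import Cfsg.Agent.H883.BS.Out
import Cfsg.Agent.S5662

/-!
# S5733, BS-R3: geometric subgroups of `PSp_2m(q)` miss many large primes
-/

set_option autoImplicit false

namespace Cfsg.Agent.H118.BS

open Cfsg Cfsg.Geo Module Cfsg.Agent.H262.El
open Cfsg.Agent.H884.El (PP exists_ppp exists_char one_lt_q)
open Cfsg.Agent.ClassicalGeometry.SympBasic Cfsg.Agent.H876 Cfsg.Agent.H931
open Cfsg.Agent.H883.BS (BigE OutD)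
open scoped Matrix MatrixGroups

universe u

/-! ## Numbers -/

/-- a set of exponents -/
theorem exists_D {m : ℕ} (hm : 100 ≤ m) (P : ℕ → Prop) (hP : ∀ a, a % 6 = 1 → P a ∨ P (a + 3)) :
    ∃ D : Finset ℕ, 2 * m ≤ 200 * D.card ∧
      ∀ e ∈ D, ∃ j, e = 2 * j ∧ m < 2 * j ∧ j ≤ m ∧ j % 3 = 1 ∧ P j := by
  classical
  set a₀ := 6 * (m / 12 + 1) + 1 with ha₀
  let pick : ℕ → ℕ := fun i => if P (a₀ + 6 * i) then a₀ + 6 * i else a₀ + 6 * i + 3
  have h1 : ∀ i, a₀ + 6 * i ≤ pick i ∧ pick i ≤ a₀ + 6 * i + 3 ∧ pick i % 3 = 1 ∧ P (pick i) := by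
    intro i
    have h2 : (a₀ + 6 * i) % 6 = 1 := by omega
    by_cases h : P (a₀ + 6 * i)
    · have h3 : pick i = a₀ + 6 * i := if_pos h
      rw [h3]
      exact ⟨le_rfl, by omega, by omega, h⟩
    · have h3 : pick i = a₀ + 6 * i + 3 := if_neg h
      rw [h3]
      exact ⟨by omega, le_rfl, by omega, (hP _ h2).resolve_left h⟩
  have hinj : Function.Injective (fun i => 2 * pick i) := by
    intro i k hik
    have h2 := h1 i
    have h3 := h1 k
    simp only at hik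
    omega
  refine ⟨(Finset.range (m / 100 + 1)).image (fun i => 2 * pick i), ?_, ?_⟩
  · rw [Finset.card_image_of_injective _ hinj, Finset.card_range]
    omega
  · intro e he
    obtain ⟨i, hi, rfl⟩ := Finset.mem_image.1 he
    rw [Finset.mem_range] at hi
    obtain ⟨h2, h3, h4, h5⟩ := h1 i
    exact ⟨pick i, rfl, by omega, by omega, h4, h5⟩

theorem big_of {q j r : ℕ} (hr : PP q (2 * j) r) (hj : 2 ≤ j) (h3 : j % 3 = 1) : 2 * (2 * j) + 1 ≤ r := by
  obtain ⟨c, hc⟩ := hr.dvd_sub_one (by omega)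
  have h2 := hr.prime.two_le
  have h4 : c ≠ 0 := by
    rintro rfl
    omega
  have h5 : c ≠ 1 := by
    rintro rfl
    have h6 : r = 2 * j + 1 := by omega
    have h7 : 3 ∣ r := by omega
    have h8 := (Nat.prime_dvd_prime_iff_eq Nat.prime_three hr.prime).1 h7
    omega
  have h6 : 2 * j * 2 ≤ 2 * j * c := Nat.mul_le_mul_left _ (by omega)
  omega

section row

variable {F : Type u} [Field F] [Fintype F] {m : ℕ}

/-- the exponent `2 j` is missed by `H` -/
def Good (H : Subgroup (GL (Fin m ⊕ Fin m) F)) (j : ℕ) : Prop :=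
  ∀ p a r : ℕ, p.Prime → 1 ≤ a → Nat.card F = p ^ a → PP p (a * (2 * j)) r → ¬ r ∣ Nat.card H

theorem exists_elt {H : Subgroup (GL (Fin m ⊕ Fin m) F)} {r : ℕ} (hr : r.Prime) (hd : r ∣ Nat.card H) :
    ∃ g ∈ H, g ^ r = 1 ∧ g ≠ 1 := by
  have := Fact.mk hr
  have hfin : Finite (GL (Fin m ⊕ Fin m) F) := inferInstance
  obtain ⟨g, hg⟩ := exists_prime_orderOf_dvd_card' r hd
  refine ⟨g, g.2, ?_, ?_⟩
  · rw [← Subgroup.coe_pow, ← hg, pow_orderOf_eq_one]; rfl
  · intro h1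
    have hg2 : g = 1 := Subtype.ext h1
    rw [hg2, orderOf_one] at hg
    exact hr.one_lt.ne hg

/-- decompositions -/
theorem kill_decomp {H : Subgroup (GL (Fin m ⊕ Fin m) F)} {t k : ℕ} {D : Fin t → Submodule F (Fin m ⊕ Fin m → F)}
    (hD : IsMDecomposition k D) (hH : H ≤ decompositionStabilizer D) {j r : ℕ} (hj : m < 2 * j) (hj2 : 2 ≤ j)
    (h3 : j % 3 = 1) (hr : PP (Nat.card F) (2 * j) r) (hd : r ∣ Nat.card H) : False := by
  have hι : Fintype.card (Fin m ⊕ Fin m) = 2 * m := card_sum_fin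
  have htk : t * k = 2 * m := by rw [Cfsg.Agent.H918.decomp_card hD, hι]
  have h4 := hD.two_le
  have h5 := hD.pos
  have ht : t ≤ 2 * m := by
    rw [← htk]
    exact Nat.le_mul_of_pos_right t hD.pos
  have h6 : 2 * k ≤ t * k := Nat.mul_le_mul_right k h4
  have h7 := Cfsg.Agent.H884.El.decomp_le hD hH hr (by omega) hd
  have h8 := big_of hr hj2 h3
  omega

/-- tensor induced -/
theorem kill_twreath {H : Subgroup (GL (Fin m ⊕ Fin m) F)} {k t : ℕ} {e : (Fin m ⊕ Fin m) ≃ (Fin t → Fin k)}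
    {P : GL (Fin m ⊕ Fin m) F} (hk : 2 ≤ k) (ht : 2 ≤ t) (hH : H ≤ tensorWreathSubgroup k t e P)
    {j r : ℕ} (hj : m < 2 * j) (hr : PP (Nat.card F) (2 * j) r) (hd : r ∣ Nat.card H) : False := by
  have hq := one_lt_q F
  have hrd := hr.lt (by omega)
  have hkt : k ^ t = 2 * m := by
    have h1 := Fintype.card_congr e
    rw [card_sum_fin, Fintype.card_fun, Fintype.card_fin, Fintype.card_fin] at h1
    exact h1.symm
  rcases Cfsg.Agent.H251.GeoCard.wreath e P hr.prime (hr.not_dvd (by omega))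
    (hd.trans (Subgroup.card_dvd_of_le hH)) with h | h
  · have h3 : 2 ^ t ≤ k ^ t := Nat.pow_le_pow_left hk t
    have h4 : t - 1 < 2 ^ (t - 1) := Nat.lt_two_pow_self
    have h5 : 2 ^ t = 2 * 2 ^ (t - 1) := by rw [← pow_succ']; congr 1; omega
    omega
  · have h3 := Cfsg.Agent.H884.El.le_of_div hr hq.le h
    have h4 : k ^ 2 ≤ k ^ t := Nat.pow_le_pow_right (by omega) ht
    have h5 : 2 * k ≤ k ^ 2 := by rw [pow_two]; exact Nat.mul_le_mul_right _ hk
    omega

/-- **the classes** -/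
theorem row (hm : 100 ≤ m) {H M : Subgroup (GL (Fin m ⊕ Fin m) F)} (hM : InSymplecticClass m F M) (hHM : H ≤ M) :
    (∃ W : Submodule F (Fin m ⊕ Fin m → F), W ≠ ⊥ ∧ W ≠ ⊤ ∧ H ≤ subspaceStabilizer W) ∨
    (Even (Fintype.card F) ∧ ∃ Q : (Fin m ⊕ Fin m → F) → F, IsNondegenerateQuadraticForm Q ∧
      (∀ u v, QuadraticMap.polar Q u v = sympForm m F u v) ∧ H ≤ isometryGroup F Q) ∨
    ∃ P : ℕ → Prop, (∀ a, a % 6 = 1 → P a ∨ P (a + 3)) ∧
      ∀ j, m < 2 * j → j ≤ m → j % 3 = 1 → P j → Good H j := by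
  have hq := one_lt_q F
  have hι : Fintype.card (Fin m ⊕ Fin m) = 2 * m := card_sum_fin
  have hne : Nonempty (Fin m ⊕ Fin m) := ⟨Sum.inl ⟨0, by omega⟩⟩
  have hall : (∀ j, m < 2 * j → j ≤ m → j % 3 = 1 → ∀ r, PP (Nat.card F) (2 * j) r → ¬ r ∣ Nat.card H) →
      ∃ P : ℕ → Prop, (∀ a, a % 6 = 1 → P a ∨ P (a + 3)) ∧
        ∀ j, m < 2 * j → j ≤ m → j % 3 = 1 → P j → Good H j := by
    intro h
    refine ⟨fun _ => True, fun a _ => Or.inl trivial, fun j h1 h2 h3 _ p a r hp ha hF hr => ?_⟩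
    refine h j h1 h2 h3 r ?_
    rw [hF]
    exact Cfsg.Agent.H884.El.PP.of_pow hr ha
  have hfield : ∀ (s : ℕ) (K : Subalgebra F (Matrix (Fin m ⊕ Fin m) (Fin m ⊕ Fin m) F)), s.Prime → s ≠ 2 →
      IsFieldSubalgebra s K → H ≤ subalgebraNormalizer K →
      ∃ P : ℕ → Prop, (∀ a, a % 6 = 1 → P a ∨ P (a + 3)) ∧
        ∀ j, m < 2 * j → j ≤ m → j % 3 = 1 → P j → Good H j := by
    intro s K hs hs2 hK hHK
    have hsn : s ∣ 2 * m := by
      let _ : Field K := (H912.isField_of_fieldSub hK).toField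
      have h5 := Module.finrank_mul_finrank F K (Fin m ⊕ Fin m → F)
      rw [hK.finrank_eq, Module.finrank_fintype_fun_eq_card, hι] at h5
      exact Dvd.intro _ h5
    refine ⟨fun j => ¬ s ∣ j, fun a ha => ?_, fun j h1 h2 h3 h4 p a r hp ha hF hr hd => ?_⟩
    · by_contra hcon
      push Not at hcon
      have h5 : s ∣ 3 := (Nat.dvd_add_right hcon.1).1 hcon.2
      have h6 := (Nat.prime_dvd_prime_iff_eq hs Nat.prime_three).1 h5
      have h7 := hcon.1
      rw [h6] at h7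
      omega
    · have hr' : PP (Nat.card F) (2 * j) r := by
        rw [hF]
        exact Cfsg.Agent.H884.El.PP.of_pow hr ha
      rcases Cfsg.Agent.H884.El.ext_cases hs hK hHK (by rw [hι]; exact hsn) hr' (by rw [hι]; omega) hd with h5 | h5
      · have h6 := Nat.le_of_dvd (by omega) hsn
        have h7 := big_of hr' (by omega) h3
        omega
      · rcases (Nat.Prime.dvd_mul hs).1 h5 with h6 | h6
        · exact hs2 ((Nat.prime_dvd_prime_iff_eq hs Nat.prime_two).1 h6)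
        · exact h4 h6
  rcases hM with hM | hM | hM | hM | hM
  · rcases hM with hM | hM | hM | hM | hM | hM | hM
    · obtain ⟨W, hW0, hW, rfl⟩ := hM
      exact Or.inl ⟨W, hW0, totallySingular_ne_top (by omega) hW, hHM.trans inf_le_left⟩
    · obtain ⟨W, hW0, hW, hW2, rfl⟩ := hM
      refine Or.inl ⟨W, hW0, ?_, hHM.trans inf_le_left⟩
      rintro rfl
      rw [finrank_top, Module.finrank_fintype_fun_eq_card, hι] at hW2
      omega
    · obtain ⟨t, k, D, hD, rfl⟩ := hM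
      exact Or.inr (Or.inr (hall fun j h1 h2 h3 r hr hd =>
        kill_decomp hD.decomp (hHM.trans inf_le_left) h1 (by omega) h3 hr hd))
    · obtain ⟨D, -, hD, -, rfl⟩ := hM
      exact Or.inr (Or.inr (hall fun j h1 h2 h3 r hr hd =>
        kill_decomp hD (hHM.trans inf_le_left) h1 (by omega) h3 hr hd))
    · obtain ⟨F₀, s, P, ζ, hs, hcard, -, -, rfl⟩ := hM
      refine Or.inr (Or.inr ⟨fun _ => True, fun a _ => Or.inl trivial,
        fun j h1 h2 h3 _ p a r hp ha hF hr hd => ?_⟩)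
      exact Cfsg.Agent.H884.El.kill_subfield (hHM.trans inf_le_left) hs (by rw [Nat.card_eq_fintype_card]; exact hcard) hp hF
        hr (by rw [hι]; omega) (by omega) hd
    · obtain ⟨R, p', k, hR, habs, -, hp', hodd, hFp, hRc, hZ, -, rfl⟩ := hM
      refine Or.inr (Or.inr (hall fun j h1 h2 h3 r hr hd => ?_))
      have hfin : Finite (GL (Fin m ⊕ Fin m) F) := inferInstance
      have hcard := Cfsg.Agent.H921.card_eq_pow_of_center_prime hR habs hZ hRc
      have hk : 1 ≤ k := by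
        rcases Nat.eq_zero_or_pos k with h | h
        · rw [h, pow_zero, hι] at hcard
          omega
        · exact h
      have h8 := big_of hr (by omega) h3
      rcases symp_prime (by omega) (hHM.trans inf_le_left) habs hR hk hcard hZ hr.prime hd with h | h | h
      · omega
      · have h5 : r ∣ Nat.card F ^ 1 - 1 := by rwa [pow_one]
        rw [hr.dvd_iff (by omega)] at h5
        have := Nat.le_of_dvd one_pos h5
        omega
      · rw [← hcard, hι] at h
        omega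
    · obtain ⟨Q, hodd, hQ, hpol, rfl⟩ := hM
      exact Or.inr (Or.inl ⟨Nat.not_odd_iff_even.1 hodd, Q, hQ, hpol, fun h hh =>
        mem_isometry (by omega) hpol (hHM hh).1 (hHM hh).2⟩)
  · obtain ⟨s, K, hs, hK, hsa, -, rfl⟩ := hM
    right; right
    by_cases hs2 : s = 2
    · subst hs2
      refine ⟨Odd, fun a ha => Or.inl (Nat.odd_iff.2 (by omega)), fun j h1 h2 h3 h4 p a r hp ha hF hr hd => ?_⟩
      have hr' : PP (Nat.card F) (2 * j) r := by
        rw [hF]
        exact Cfsg.Agent.H884.El.PP.of_pow hr ha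
      obtain ⟨g, hgH, hgr, hg1⟩ := exists_elt hr.prime hd
      exact no_quad_odd (hHM hgH).2 hr' h4 h1 hgr hg1 hK hsa (hHM hgH).1
    · exact hfield s K hs hs2 hK (hHM.trans inf_le_left)
  · obtain ⟨K, -, hK, hac, hnsa, rfl⟩ := hM
    right; right
    refine ⟨Even, fun a ha => Or.inr (Nat.even_iff.2 (by omega)), fun j h1 h2 h3 h4 p a r hp ha hF hr hd => ?_⟩
    have hr' : PP (Nat.card F) (2 * j) r := by
      rw [hF]
      exact Cfsg.Agent.H884.El.PP.of_pow hr ha
    obtain ⟨g, hgH, hgr, hg1⟩ := exists_elt hr.prime hd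
    exact no_quad_even (hHM hgH).2 hr' h4 h1 hgr hg1 hK hac hnsa (hHM hgH).1
  · obtain ⟨n₁, n₂, e, P, f₁, f₂, -, hn2, hf₁, -, -, rfl⟩ := hM
    refine Or.inr (Or.inr (hall fun j h1 h2 h3 r hr hd => ?_))
    have hc := Fintype.card_congr e
    rw [hι, Fintype.card_prod, Fintype.card_fin, Fintype.card_fin] at hc
    refine Cfsg.Agent.H884.El.kill_tensor e P (hHM.trans inf_le_left) (two_le_of_symp hf₁ ?_) (by omega) (by rw [hι, hc])
      hr (by rw [hι]; omega) hd
    rintro rfl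
    rw [zero_mul] at hc
    omega
  · obtain ⟨k, t, e, P, f₁, -, -, ht, -, hf₁, -, rfl⟩ := hM
    refine Or.inr (Or.inr (hall fun j h1 h2 h3 r hr hd => ?_))
    refine kill_twreath (two_le_of_symp hf₁ ?_) (by omega) (hHM.trans inf_le_left) h1 hr hd
    rintro rfl
    have h1 := Fintype.card_congr e
    rw [hι, Fintype.card_fun, Fintype.card_fin, Fintype.card_fin, zero_pow (by omega)] at h1
    omega

end row

/-- **BS-R3.** -/
theorem geoD_psp : ∃ N0 : ℕ, ∀ {F : Type*} [Field F] [Fintype F] {m : ℕ}, N0 ≤ m →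
    ∀ {R : Subgroup (Cfsg.PSp m F)}, R ≠ ⊤ →
    OutD (.psp m (Fintype.card F)) R ∨
    (∃ W : Submodule F (Fin m ⊕ Fin m → F), W ≠ ⊥ ∧ W ≠ ⊤ ∧ pre R ≤ Cfsg.Geo.subspaceStabilizer W) ∨
    (Even (Fintype.card F) ∧ ∃ Q : (Fin m ⊕ Fin m → F) → F, Cfsg.Geo.IsNondegenerateQuadraticForm Q ∧
      (∀ u v, QuadraticMap.polar Q u v = sympForm m F u v) ∧ pre R ≤ isometryGroup F Q) ∨
    Cfsg.Geo.InSymplecticResidualClass (pre R) := by
  refine ⟨100, ?_⟩
  intro F _ _ m hm R hR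
  rcases Cfsg.Agent.S5662.result m (by omega) (by rintro ⟨h, -⟩; omega) (pre R) (pre_le R) (by
    rw [sup_eq_left.2 (scalars_le_pre R)]
    exact pre_ne hR) with ⟨M, hM', hle⟩ | h
  swap
  · exact Or.inr (Or.inr (Or.inr h))
  rcases row hm hM' hle with h | h | ⟨P, hP, h⟩
  · exact Or.inr (Or.inl h)
  · exact Or.inr (Or.inr (Or.inl h))
  left
  obtain ⟨D, hD, hDe⟩ := exists_D hm P hP
  refine ⟨D, hD, fun e he => ?_⟩
  obtain ⟨j, rfl, h1, h2, h3, h4⟩ := hDe e he
  obtain ⟨p, a, hp, ha, hF⟩ := exists_char F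
  obtain ⟨r, hr⟩ := exists_ppp (p := p) (a := a) (e := 2 * j) hp ha (by omega) (by rintro ⟨-, h⟩; omega)
    (fun b hb h => by
      have := Nat.mul_le_mul_right (2 * j) hb
      omega)
  have hr' : PP (Nat.card F) (2 * j) r := by
    rw [hF]
    exact Cfsg.Agent.H884.El.PP.of_pow hr ha
  refine ⟨r, ⟨hr.prime, ?_, even_two_mul j, h1, by omega⟩, fun hd => ?_⟩
  · rw [← Nat.card_eq_fintype_card]
    exact hr'.ord
  · exact h j h1 h2 h3 h4 p a r hp ha hF hr (hd.trans (card_pre_eq R))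

end Cfsg.Agent.H118.BS
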